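import Groth.Agent.AlgSpDec.LqfScheme
import Groth.Agent.AlgSpPts.Univ

/-!
# Images in separated locally quasi-finite spaces over affine schemes
-/

set_option autoImplicit false
set_option backward.isDefEq.respectTransparency false
set_option backward.isDefEq.respectTransparency.types false

universe u

open CategoryTheory CategoryTheory.Limits AlgebraicGeometry AlgSp Groth.Agent.AlgSpLib
  Groth.Agent.AlgSpPts Groth.Agent.AlgSpDec

namespace Groth.Agent.LqfImage

variable {S : Scheme.{u}}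

theorem exists_qc_open_image {T T' : Over S} [IsAffine T.left] [IsAffine T'.left] (e : T' ⟶ T) [Etale e.left]
    {X P V' : Space S} (f : X.obj ⟶ (yon S).obj T) (hsep : IsSeparatedMor f)
    (hqf : LocP (@LocallyQuasiFinite ⊓ @LocallyOfFiniteType) f)
    (p1 : P.obj ⟶ (yon S).obj T') (p2 : P.obj ⟶ X.obj) (sq : IsPullback p2 p1 f ((yon S).map e))
    (j : V'.obj ⟶ P.obj) (hj : RepWith @IsOpenImmersion j) (hqa : IsQuasiAffineMor (j ≫ p1)) :
    ∃ (W : Over S) (i : (yon S).obj W ⟶ X.obj), RepWith @IsOpenImmersion i ∧ CompactSpace ↥W.left ∧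
      Set.range (Points.map i) = Set.range (Points.map (j ≫ p2)) := by
  obtain ⟨Q, ⟨q⟩⟩ := exists_iso_of_lqf_separated X.property f hqf hsep
  obtain ⟨W', i', fst, hsq, hW'⟩ := hqa (Z := T') inferInstance (𝟙 _)
  have : IsIso fst := hsq.isIso_fst_of_isIso
  have := hW'.toCompactSpace
  have hp2 : RepWith @Etale p2 := repWith_of_isPullback sq.flip ((repWith_yon_map_iff _ e).2 inferInstance)
  have hje : RepWith @Etale j :=
    repWith_mono (fun _ _ g (_ : IsOpenImmersion g) => inferInstanceAs (Etale g)) _ hj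
  have hc' : RepWith @Etale (fst ≫ j ≫ p2 ≫ q.inv) :=
    repWith_comp (repWith_of_isIso _ _) (repWith_comp hje (repWith_comp hp2 (repWith_of_isIso _ _)))
  obtain ⟨c, hc⟩ := (yon S).map_surjective (fst ≫ j ≫ p2 ≫ q.inv)
  have : Etale c.left := (repWith_yon_map_iff _ c).1 (hc ▸ hc')
  let O : Q.left.Opens := ⟨Set.range c.left, c.left.isOpenMap.isOpen_range⟩
  let ι : Over.mk (O.ι ≫ Q.hom) ⟶ Q := Over.homMk O.ι rfl
  refine ⟨_, (yon S).map ι ≫ q.hom, repWith_comp ((repWith_yon_map_iff _ ι).2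
    (inferInstanceAs (IsOpenImmersion O.ι))) (repWith_of_isIso _ _),
    isCompact_iff_compactSpace.1 (isCompact_range c.left.continuous), ?_⟩
  have key : ∀ w, Points.map (fst ≫ j ≫ p2) (Points.ofScheme W' w) = Points.ofPt q.hom (c.left w) := fun w => by
    rw [← ofPt_comp, hc, ← Points.ofPt_eq_map_ofScheme]
    simp only [Category.assoc, q.inv_hom_id, Category.comp_id]
  refine Set.Subset.antisymm ?_ ?_
  · rintro _ ⟨z, rfl⟩
    obtain ⟨o, rfl⟩ := (Points.schemeHomeo _).surjective z
    obtain ⟨w, hw⟩ := o.2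
    refine ⟨Points.map fst (Points.ofScheme W' w), ?_⟩
    rw [← Points.map_comp, key]
    change _ = Points.map ((yon S).map ι ≫ q.hom) (Points.ofScheme _ o)
    rw [← Points.ofPt_eq_map_ofScheme, ofPt_comp, hw]
    rfl
  · rintro _ ⟨z, rfl⟩
    obtain ⟨w, hw⟩ := (Points.schemeHomeo W').surjective (Points.map (inv fst) z)
    refine ⟨Points.ofScheme _ (⟨c.left w, w, rfl⟩ : O.toScheme), ?_⟩
    rw [← Points.ofPt_eq_map_ofScheme, ofPt_comp]
    change Points.ofPt q.hom (c.left w) = _
    rw [← key]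
    change Points.map (fst ≫ j ≫ p2) (Points.schemeHomeo W' w) = _
    rw [hw, ← Points.map_comp, IsIso.inv_hom_id_assoc]

end Groth.Agent.LqfImage
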